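import Mathlib

/-!
# Exactness after tensoring a flat complex, along devissages of modules
-/

set_option autoImplicit false
set_option linter.style.haveILetI false
set_option linter.unusedSectionVars false

universe u v

open TensorProduct

namespace Groth.Agent.StratDesc

variable {R : Type u} [CommRing R] {P : ℕ → Type u} [∀ n, AddCommGroup (P n)] [∀ n, Module R (P n)]
  (d : ∀ n, P (n + 1) →ₗ[R] P n)

/-- Exactness in the positive degree `i + 1` after tensoring with `N`. -/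
def Ex (i : ℕ) (N : Type u) [AddCommGroup N] [Module R N] : Prop :=
  Function.Exact ((d (i + 1)).lTensor N) ((d i).lTensor N)

variable {d}

theorem lTensor_rTensor_comm {A B : Type u} [AddCommGroup A] [Module R A] [AddCommGroup B] [Module R B]
    (f : A →ₗ[R] B) (n : ℕ) (x : A ⊗[R] P (n + 1)) :
    (d n).lTensor B (f.rTensor (P (n + 1)) x) = f.rTensor (P n) ((d n).lTensor A x) := by
  induction x using TensorProduct.induction_on with
  | zero => simp
  | tmul a b => simp
  | add x y hx hy => simp [hx, hy]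

variable (hd : ∀ i, (d i).comp (d (i + 1)) = 0) [∀ n, Module.Flat R (P n)]

include hd in
theorem lTensor_d_d (N : Type u) [AddCommGroup N] [Module R N] (i : ℕ) (y : N ⊗[R] P (i + 1 + 1)) :
    (d i).lTensor N ((d (i + 1)).lTensor N y) = 0 := by
  rw [← LinearMap.comp_apply, ← LinearMap.lTensor_comp, hd i, LinearMap.lTensor_zero, LinearMap.zero_apply]

theorem Ex.of_subsingleton (i : ℕ) (N : Type u) [AddCommGroup N] [Module R N] [Subsingleton N] : Ex d i N :=
  fun x => by
    haveI : Subsingleton (N ⊗[R] P i) := inferInstance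
    haveI : Subsingleton (N ⊗[R] P (i + 1)) := inferInstance
    exact ⟨fun _ => ⟨0, Subsingleton.elim _ _⟩, fun _ => Subsingleton.elim _ _⟩

variable {N₁ N₂ N₃ : Type u} [AddCommGroup N₁] [AddCommGroup N₂] [AddCommGroup N₃]
  [Module R N₁] [Module R N₂] [Module R N₃] {f : N₁ →ₗ[R] N₂} {g : N₂ →ₗ[R] N₃}

theorem inj_rTensor (hf : Function.Injective f) (n : ℕ) : Function.Injective (f.rTensor (P n)) :=
  Module.Flat.rTensor_preserves_injective_linearMap f hf

include hd in
/-- Extensions. -/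
theorem Ex.mid (hf : Function.Injective f) (hfg : Function.Exact f g) (hg : Function.Surjective g) {i : ℕ}
    (h₁ : Ex d i N₁) (h₃ : Ex d i N₃) : Ex d i N₂ := by
  intro x
  refine ⟨fun hx => ?_, fun ⟨y, hy⟩ => hy ▸ lTensor_d_d hd N₂ i y⟩
  have hgx : (d i).lTensor N₃ (g.rTensor _ x) = 0 := by rw [lTensor_rTensor_comm, hx, map_zero]
  obtain ⟨y₃, hy₃⟩ := (h₃ _).1 hgx
  obtain ⟨y₂, rfl⟩ := LinearMap.rTensor_surjective _ hg y₃
  have h0 : g.rTensor _ (x - (d (i + 1)).lTensor N₂ y₂) = 0 := by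
    rw [map_sub, ← lTensor_rTensor_comm, hy₃, sub_self]
  obtain ⟨z, hz⟩ := (rTensor_exact (P (i + 1)) hfg hg _).1 h0
  have hdz : (d i).lTensor N₁ z = 0 := inj_rTensor hf i (by
    rw [← lTensor_rTensor_comm, hz, map_sub, hx, lTensor_d_d hd, sub_zero, map_zero])
  obtain ⟨w, hw⟩ := (h₁ _).1 hdz
  refine ⟨y₂ + f.rTensor _ w, ?_⟩
  rw [map_add, lTensor_rTensor_comm, hw, hz]
  abel

include hd in
/-- Submodules. -/
theorem Ex.left (hf : Function.Injective f) (hfg : Function.Exact f g) (hg : Function.Surjective g) {i : ℕ}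
    (h₂ : Ex d i N₂) (h₃ : Ex d (i + 1) N₃) : Ex d i N₁ := by
  intro x
  refine ⟨fun hx => ?_, fun ⟨y, hy⟩ => hy ▸ lTensor_d_d hd N₁ i y⟩
  have hfx : (d i).lTensor N₂ (f.rTensor _ x) = 0 := by rw [lTensor_rTensor_comm, hx, map_zero]
  obtain ⟨y, hy⟩ := (h₂ _).1 hfx
  have hgy : (d (i + 1)).lTensor N₃ (g.rTensor _ y) = 0 := by
    rw [lTensor_rTensor_comm, hy, ← LinearMap.comp_apply, ← LinearMap.rTensor_comp]
    have : g.comp f = 0 := LinearMap.ext fun a => hfg.apply_apply_eq_zero a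
    rw [this, LinearMap.rTensor_zero, LinearMap.zero_apply]
  obtain ⟨w₃, hw₃⟩ := (h₃ _).1 hgy
  obtain ⟨w₂, rfl⟩ := LinearMap.rTensor_surjective _ hg w₃
  have h0 : g.rTensor _ (y - (d (i + 1 + 1)).lTensor N₂ w₂) = 0 := by
    rw [map_sub, ← lTensor_rTensor_comm, hw₃, sub_self]
  obtain ⟨v, hv⟩ := (rTensor_exact (P (i + 1 + 1)) hfg hg _).1 h0
  refine ⟨v, inj_rTensor hf _ ?_⟩
  rw [← lTensor_rTensor_comm, hv, map_sub, lTensor_d_d hd, hy, sub_zero]

omit [∀ n, Module.Flat R (P n)] in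
theorem exists_fg_mem_range {N : Type u} [AddCommGroup N] [Module R N] (n : ℕ) (x : N ⊗[R] P n) :
    ∃ (T : Submodule R N), T.FG ∧ ∃ z : T ⊗[R] P n, T.subtype.rTensor (P n) z = x := by
  induction x using TensorProduct.induction_on with
  | zero => exact ⟨⊥, Submodule.fg_bot, 0, map_zero _⟩
  | tmul a b =>
    exact ⟨Submodule.span R {a}, Submodule.fg_span_singleton a,
      ⟨a, Submodule.mem_span_singleton_self a⟩ ⊗ₜ b, rfl⟩
  | add x y hx hy =>
    obtain ⟨T, hT, z, rfl⟩ := hx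
    obtain ⟨T', hT', z', rfl⟩ := hy
    refine ⟨T ⊔ T', hT.sup hT', (Submodule.inclusion (le_sup_left : T ≤ T ⊔ T')).rTensor _ z +
      (Submodule.inclusion (le_sup_right : T' ≤ T ⊔ T')).rTensor _ z', ?_⟩
    simp only [map_add, ← LinearMap.comp_apply, ← LinearMap.rTensor_comp, Submodule.subtype_comp_inclusion]

include hd in
/-- Modules are unions of their finitely generated submodules. -/
theorem Ex.of_fg {N : Type u} [AddCommGroup N] [Module R N] {i : ℕ}
    (h : ∀ T : Submodule R N, T.FG → Ex d i T) : Ex d i N := by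
  intro x
  refine ⟨fun hx => ?_, fun ⟨y, hy⟩ => hy ▸ lTensor_d_d hd N i y⟩
  obtain ⟨T, hT, z, rfl⟩ := exists_fg_mem_range (i + 1) x
  rw [lTensor_rTensor_comm] at hx
  obtain ⟨w, hw⟩ := (h T hT z).1 (inj_rTensor T.subtype_injective i (by rw [hx, map_zero]))
  exact ⟨T.subtype.rTensor _ w, by rw [lTensor_rTensor_comm, hw]⟩

omit [∀ n, Module.Flat R (P n)] in
/-- Invariance under isomorphism. -/
theorem Ex.of_equiv {N N' : Type u} [AddCommGroup N] [Module R N] [AddCommGroup N'] [Module R N']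
    (e : N ≃ₗ[R] N') {i : ℕ} (h : Ex d i N) : Ex d i N' := by
  refine (LinearMap.exact_iff.2 ?_)
  refine le_antisymm (fun x hx => ?_) ?_
  · have h1 : (d i).lTensor N (e.symm.toLinearMap.rTensor _ x) = 0 := by
      rw [lTensor_rTensor_comm, LinearMap.mem_ker.1 hx, map_zero]
    obtain ⟨y, hy⟩ := (h _).1 h1
    refine ⟨e.toLinearMap.rTensor _ y, ?_⟩
    rw [lTensor_rTensor_comm, hy, ← LinearMap.comp_apply, ← LinearMap.rTensor_comp]
    simp
  · rintro _ ⟨y, rfl⟩
    have h2 := (h ((d (i + 1)).lTensor N (e.symm.toLinearMap.rTensor _ y))).2 ⟨_, rfl⟩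
    rw [lTensor_rTensor_comm, lTensor_rTensor_comm] at h2
    exact LinearMap.mem_ker.2 ((e.symm.rTensor (P i)).injective (h2.trans (map_zero _).symm))

end Groth.Agent.StratDesc
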