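import Mathlib
import Groth.Agent.GenFree.Algebra
import Groth.Agent.NearGen.Constr
import Groth.Agent.StratDescLib.Exact

/-!
# Exactness after tensoring descends along surjective maps of finite presentation
-/

set_option autoImplicit false
set_option linter.style.haveILetI false
set_option linter.unusedSectionVars false

universe u

open TensorProduct

noncomputable section

namespace Groth.Agent.StratDesc

variable {R : Type u} [CommRing R] {P : ℕ → Type u} [∀ n, AddCommGroup (P n)] [∀ n, Module R (P n)]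
  {d : ∀ n, P (n + 1) →ₗ[R] P n} (A : Type u) [CommRing A] [Algebra R A]

/-- Surjectivity on spectra is stable under base change. -/
theorem comap_surjective_baseChange (R' : Type u) [CommRing R'] [Algebra R R']
    (h : Function.Surjective (PrimeSpectrum.comap (algebraMap R A))) :
    Function.Surjective (PrimeSpectrum.comap (algebraMap R' (R' ⊗[R] A))) := fun p' => by
  let p := PrimeSpectrum.comap (algebraMap R R') p'
  have h1 : Nontrivial (p.asIdeal.ResidueField ⊗[R] A) := p.nontrivial_iff_mem_rangeComap.2 (h p)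
  show p' ∈ Set.range _
  rw [← p'.nontrivial_iff_mem_rangeComap]
  letI : Algebra p.asIdeal.ResidueField p'.asIdeal.ResidueField :=
    (Ideal.ResidueField.map p.asIdeal p'.asIdeal (algebraMap R R') rfl).toAlgebra
  haveI : IsScalarTower R p.asIdeal.ResidueField p'.asIdeal.ResidueField := .of_algebraMap_eq fun a => by
    rw [IsScalarTower.algebraMap_apply R R' p'.asIdeal.ResidueField]
    exact (Ideal.ResidueField.map_algebraMap ..).symm
  haveI h2 : Nontrivial (p'.asIdeal.ResidueField ⊗[p.asIdeal.ResidueField] (p.asIdeal.ResidueField ⊗[R] A)) :=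
    Module.FaithfullyFlat.lTensor_nontrivial p.asIdeal.ResidueField _ _
  exact (((AlgebraTensorModule.cancelBaseChange R p.asIdeal.ResidueField p'.asIdeal.ResidueField
    p'.asIdeal.ResidueField A).trans (AlgebraTensorModule.cancelBaseChange R R' p'.asIdeal.ResidueField
    p'.asIdeal.ResidueField A).symm).symm.toEquiv).nontrivial

variable (hA : ∀ (i : ℕ) (X : Type u) [AddCommGroup X] [Module A X] [Module R X] [IsScalarTower R A X], Ex d i X)

include hA in
/-- Descent along a faithfully flat piece. -/
theorem ex_of_flat (hs : Function.Surjective (PrimeSpectrum.comap (algebraMap R A)))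
    (R' : Type u) [CommRing R'] [Algebra R R'] [Module.Flat R' (R' ⊗[R] A)]
    (N : Type u) [AddCommGroup N] [Module R' N] [Module R N] [IsScalarTower R R' N] (i : ℕ) : Ex d i N := by
  haveI : Module.FaithfullyFlat R' (R' ⊗[R] A) :=
    Module.FaithfullyFlat.of_comap_surjective (comap_surjective_baseChange A R' hs)
  letI : Module A ((R' ⊗[R] A) ⊗[R'] N) :=
    Module.compHom _ (Algebra.TensorProduct.includeRight : A →ₐ[R] R' ⊗[R] A).toRingHom
  haveI : IsScalarTower R A ((R' ⊗[R] A) ⊗[R'] N) := .of_algebraMap_smul fun r x => by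
    show (Algebra.TensorProduct.includeRight : A →ₐ[R] R' ⊗[R] A) (algebraMap R A r) • x = r • x
    rw [AlgHom.commutes, algebraMap_smul]
  let D : ∀ n, N ⊗[R] P (n + 1) →ₗ[R'] N ⊗[R] P n := fun n => AlgebraTensorModule.lTensor R' N (d n)
  let e : ∀ n, (((R' ⊗[R] A) ⊗[R'] N) ⊗[R] P n) ≃+ ((R' ⊗[R] A) ⊗[R'] (N ⊗[R] P n)) := fun n =>
    (AlgebraTensorModule.assoc R R' (R' ⊗[R] A) (R' ⊗[R] A) N (P n)).toAddEquiv
  have hc : ∀ n x, (D n).lTensor (R' ⊗[R] A) (e (n + 1) x) = e n ((d n).lTensor _ x) := fun n x => by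
    induction x using TensorProduct.induction_on with
    | zero => simp
    | tmul a p =>
      induction a using TensorProduct.induction_on with
      | zero => simp
      | tmul a b => simp [e, D]
      | add a b ha hb => simp only [add_tmul, map_add, ha, hb]
    | add x y hx hy => simp only [map_add, hx, hy]
  refine (Module.FaithfullyFlat.lTensor_exact_iff_exact R' (R' ⊗[R] A) (D (i + 1)) (D i)).1 fun y => ?_
  obtain ⟨x, rfl⟩ := (e (i + 1)).surjective y
  rw [hc, map_eq_zero_iff _ (e i).injective, hA i _ x]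
  constructor
  · rintro ⟨z, rfl⟩
    exact ⟨e (i + 1 + 1) z, hc _ z⟩
  · rintro ⟨w, hw⟩
    obtain ⟨z, rfl⟩ := (e (i + 1 + 1)).surjective w
    rw [hc] at hw
    exact ⟨z, (e (i + 1)).injective hw⟩

variable [∀ n, Module.Flat R (P n)] (hd : ∀ i, (d i).comp (d (i + 1)) = 0)

include hA hd in
/-- Exactness for all modules. -/
theorem ex_of_finitePresentation [Algebra.FinitePresentation R A]
    (hs : Function.Surjective (PrimeSpectrum.comap (algebraMap R A)))
    (i : ℕ) (N : Type u) [AddCommGroup N] [Module R N] : Ex d i N := by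
  obtain ⟨R₀, _, _, _, A₀, _, _, hfp, ⟨eA⟩⟩ := NearGen.exists_noetherian_model R A
  suffices key : ∀ (I : Ideal R₀) (i : ℕ) (N : Type u) [AddCommGroup N] [Module R N],
      (∀ r ∈ I, ∀ n : N, algebraMap R₀ R r • n = 0) → Ex d i N from
    key ⊥ i N fun r hr n => by rw [(Submodule.mem_bot R₀).1 hr, map_zero, zero_smul]
  intro I
  induction I using WellFoundedGT.induction with
  | ind I ih => ?_
  intro i N _ _ hN
  by_cases hp : I.IsPrime
  swap
  · rcases Ideal.not_isPrime_iff.1 hp with rfl | ⟨x, hx, y, hy, hxy⟩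
    · haveI : Subsingleton N := subsingleton_of_forall_eq 0 fun n => by
        simpa using hN 1 Submodule.mem_top n
      exact Ex.of_subsingleton i N
    let T : Submodule R N := LinearMap.range (LinearMap.lsmul R N (algebraMap R₀ R x))
    refine Ex.mid hd (f := T.subtype) (g := T.mkQ) T.injective_subtype (LinearMap.exact_subtype_mkQ T)
      T.mkQ_surjective (ih (I ⊔ Ideal.span {y}) (left_lt_sup.2 (by simpa using hy)) i T ?_)
      (ih (I ⊔ Ideal.span {x}) (left_lt_sup.2 (by simpa using hx)) i (N ⧸ T) ?_)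
    · rintro r hr ⟨_, n, rfl⟩
      obtain ⟨a, ha, b, hb, rfl⟩ := Submodule.mem_sup.1 hr
      obtain ⟨c, rfl⟩ := Ideal.mem_span_singleton'.1 hb
      refine Subtype.ext ?_
      show algebraMap R₀ R (a + c * y) • algebraMap R₀ R x • n = 0
      rw [smul_smul, ← map_mul, add_mul, map_add, add_smul, hN _ (I.mul_mem_right _ ha),
        hN _ (by rw [mul_assoc, mul_comm y x]; exact I.mul_mem_left _ hxy), add_zero]
    · intro r hr m
      obtain ⟨n, rfl⟩ := T.mkQ_surjective m
      obtain ⟨a, ha, b, hb, rfl⟩ := Submodule.mem_sup.1 hr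
      obtain ⟨c, rfl⟩ := Ideal.mem_span_singleton'.1 hb
      rw [← map_smul, map_add (algebraMap R₀ R), add_smul, hN _ ha, zero_add, map_mul, mul_comm, mul_smul]
      exact (Submodule.Quotient.mk_eq_zero T).2 ⟨_, rfl⟩
  haveI := hp
  obtain ⟨fb, -, hfb, hfree, -⟩ := GenFree.exists_algebra (R := R₀ ⧸ I) (S := (R₀ ⧸ I) ⊗[R₀] A₀)
    (g := 1) one_ne_zero
  obtain ⟨f, rfl⟩ := Ideal.Quotient.mk_surjective fb
  have hf : f ∉ I := fun h => hfb (Ideal.Quotient.eq_zero_iff_mem.2 h)
  have hfn : ∀ n : ℕ, I < I ⊔ Ideal.span {f ^ n} := fun n =>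
    left_lt_sup.2 fun h => hf (hp.mem_of_pow_mem n (h (Ideal.mem_span_singleton_self _)))
  -- torsion modules
  have tors : ∀ (i : ℕ) (Q : Type u) [AddCommGroup Q] [Module R Q],
      (∀ r ∈ I, ∀ q : Q, algebraMap R₀ R r • q = 0) → (∀ q : Q, ∃ n : ℕ, algebraMap R₀ R f ^ n • q = 0) →
      Ex d i Q := by
    intro i Q _ _ hQ htQ
    refine Ex.of_fg hd fun T hT => ?_
    obtain ⟨s, rfl⟩ := hT
    choose k hk using htQ
    refine ih (I ⊔ Ideal.span {f ^ s.sup k}) (hfn _) i _ fun r hr t => Subtype.ext ?_
    obtain ⟨a, ha, b, hb, rfl⟩ := Submodule.mem_sup.1 hr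
    obtain ⟨c, rfl⟩ := Ideal.mem_span_singleton'.1 hb
    show algebraMap R₀ R (a + c * f ^ s.sup k) • (t : Q) = 0
    rw [map_add, add_smul, hQ a ha, zero_add, map_mul, mul_smul, map_pow]
    have : algebraMap R₀ R f ^ s.sup k • (t : Q) = 0 := by
      refine (Submodule.span_le (p := LinearMap.ker (LinearMap.lsmul R Q (algebraMap R₀ R f ^ s.sup k)))).2
        (fun q hq => ?_) t.2
      show algebraMap R₀ R f ^ s.sup k • q = 0
      obtain ⟨j, hj⟩ := Nat.exists_eq_add_of_le (Finset.le_sup (f := k) hq)
      rw [hj, add_comm, pow_add, mul_smul, hk q, smul_zero]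
    rw [this, smul_zero]
  let S := Submonoid.powers (algebraMap R₀ R f)
  let ι := LocalizedModule.mkLinearMap S N
  have hkilI : ∀ r ∈ I, ∀ m : LocalizedModule S N, algebraMap R₀ R r • m = 0 := fun r hr m => by
    induction m using LocalizedModule.induction_on with
    | h n s => rw [LocalizedModule.smul'_mk, hN r hr, LocalizedModule.zero_mk]
  have hK : ∀ r ∈ I, ∀ m : LinearMap.ker ι, algebraMap R₀ R r • m = 0 := fun r hr m =>
    Subtype.ext (hN r hr m)
  -- the localization
  have hloc : Ex d i (LocalizedModule S N) := by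
    let R' := Localization S ⧸ I.map (algebraMap R₀ (Localization S))
    have hk : ∀ a : ↥(I.map (algebraMap R₀ (Localization S)) : Set (Localization S)),
        ∀ m : LocalizedModule S N, (a : Localization S) • m = 0 := by
      rintro ⟨a, ha⟩ m
      revert m
      refine Submodule.span_induction (p := fun z _ => ∀ m : LocalizedModule S N, z • m = 0)
        (fun z hz => ?_) (fun m => zero_smul _ m) (fun a b _ _ ha hb m => by rw [add_smul, ha, hb, add_zero])
        (fun c a _ ha m => by rw [smul_eq_mul, mul_smul, ha, smul_zero]) ha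
      obtain ⟨r, hr, rfl⟩ := hz
      intro m
      rw [IsScalarTower.algebraMap_apply R₀ R (Localization S), algebraMap_smul]
      exact hkilI r hr m
    letI : Module R' (LocalizedModule S N) := Module.IsTorsionBySet.module fun m a => hk a m
    haveI : IsScalarTower R R' (LocalizedModule S N) := by
      refine IsScalarTower.of_algebraMap_smul (R := R) (A := R') (M := LocalizedModule S N) fun r m => ?_
      show algebraMap R (Localization S) r • m = r • m
      exact algebraMap_smul _ r m
    let φ : (R₀ ⧸ I) →+* R' := Ideal.Quotient.lift I (algebraMap R₀ R') fun a ha => by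
      rw [IsScalarTower.algebraMap_apply R₀ (Localization S) R']
      exact Ideal.Quotient.eq_zero_iff_mem.2 (Ideal.mem_map_of_mem _ ha)
    letI : Algebra (R₀ ⧸ I) R' := φ.toAlgebra
    haveI : IsScalarTower R₀ (R₀ ⧸ I) R' := .of_algebraMap_eq fun a => (Ideal.Quotient.lift_mk _ _ _).symm
    have hu : IsUnit (algebraMap (R₀ ⧸ I) R' (Ideal.Quotient.mk I f)) := by
      show IsUnit (φ (Ideal.Quotient.mk I f))
      rw [Ideal.Quotient.lift_mk, IsScalarTower.algebraMap_apply R₀ R R',
        IsScalarTower.algebraMap_apply R (Localization S) R']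
      exact (IsLocalization.map_units (Localization S) ⟨_, Submonoid.mem_powers _⟩).map _
    haveI : Module.Free R' (R' ⊗[R₀ ⧸ I] ((R₀ ⧸ I) ⊗[R₀] A₀)) := hfree.free R' hu
    haveI : Module.Free R' (R' ⊗[R] A) :=
      Module.Free.of_equiv ((AlgebraTensorModule.cancelBaseChange R₀ (R₀ ⧸ I) R' R' A₀).trans
        ((AlgebraTensorModule.cancelBaseChange R₀ R R' R' A₀).symm.trans
          (AlgebraTensorModule.congr (LinearEquiv.refl R' R') eA.toLinearEquiv)))
    exact ex_of_flat A hA hs R' (LocalizedModule S N) i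
  -- the image
  have himg : Ex d i (LinearMap.range ι) := by
    refine Ex.left hd (f := (LinearMap.range ι).subtype) (g := (LinearMap.range ι).mkQ) Subtype.val_injective
      (LinearMap.exact_subtype_mkQ _) (Submodule.mkQ_surjective _) hloc
      (tors (i + 1) _ (fun r hr m => ?_) fun m => ?_)
    · obtain ⟨m, rfl⟩ := Submodule.mkQ_surjective _ m
      rw [← map_smul, hkilI r hr, map_zero]
    · obtain ⟨m, rfl⟩ := Submodule.mkQ_surjective _ m
      induction m using LocalizedModule.induction_on with
      | h n s =>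
        obtain ⟨k, hk⟩ := s.2
        refine ⟨k, ?_⟩
        rw [← map_smul]
        refine (Submodule.Quotient.mk_eq_zero _).2 ⟨n, ?_⟩
        show LocalizedModule.mk n 1 = _
        rw [LocalizedModule.smul'_mk, ← LocalizedModule.mk_cancel s n]
        congr 1
        show (s : R) • n = _
        rw [← hk]
  refine Ex.mid hd (f := (LinearMap.ker ι).subtype) (g := ι.rangeRestrict) Subtype.val_injective
    (fun x => ?_) (LinearMap.surjective_rangeRestrict _) (tors i _ hK fun m => ?_) himg
  · rw [Submodule.coe_subtype, Subtype.range_coe]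
    exact Subtype.ext_iff
  · obtain ⟨⟨c, k, rfl⟩, hc⟩ :=
      (IsLocalizedModule.eq_zero_iff S ι).1 (LinearMap.mem_ker.1 m.2)
    exact ⟨k, Subtype.ext hc⟩

end Groth.Agent.StratDesc
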