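import Groth.Agent.DRingLib.Descent
import Groth.Agent.StratDescLib.Core

/-!
# Tor amplitude descends along surjective maps of finite presentation
-/

set_option autoImplicit false
set_option linter.style.haveILetI false
set_option backward.isDefEq.respectTransparency false
set_option maxHeartbeats 1000000

universe u

open CategoryTheory Limits MonoidalCategory
attribute [local instance] HasDerivedCategory.standard

noncomputable section

namespace Groth.Agent.StratDesc

open Groth.Agent.DRingLib Groth.Agent.DCohLib Groth.Agent.DTenLib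

variable {R A : Type u} [CommRing R] [CommRing A] [Algebra R A]

/-- An object with cohomology in degrees `≤ 0` is flat in degree zero as soon as its derived base change
along a surjective map of finite presentation is. -/
theorem amp_zero_of_lbc [Algebra.FinitePresentation R A] [DRing.HasLBaseChange (algebraMap R A)]
    (hs : Function.Surjective (PrimeSpectrum.comap (algebraMap R A))) (K : Dual.D R)
    (hK : AboveZero 1 K)
    (h : DRing.HasTorAmplitudeIn A 0 0 ((DRing.LBaseChange (algebraMap R A)).obj K)) :
    DRing.HasTorAmplitudeIn R 0 0 K := by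
  obtain ⟨N, hb, hN, ⟨e⟩⟩ := exists_proj_representative (K := K) (n := 0) hK
  refine amp_of_iso e ((tensVanish_iff hb (termwiseFlat_of_projective hN) 0 0).2 fun M i hi => ?_)
  rcases hi with hi | hi
  swap
  · exact ShortComplex.exact_of_isZero_X₂ _ ((tensorLeft M).map_isZero (hb i hi))
  obtain ⟨k, rfl⟩ : ∃ k : ℕ, i = -((k + 1 : ℕ) : ℤ) := ⟨(-i).toNat - 1, by omega⟩
  have hT := tensVanish_extCx (algebraMap R A) (isKFlat_of_projective hb hN) e h
  let P : ℕ → Type u := fun n => N.X (-(n : ℤ))
  let d : ∀ n, P (n + 1) →ₗ[R] P n := fun n => (N.d (-((n + 1 : ℕ) : ℤ)) (-(n : ℤ))).hom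
  haveI : ∀ n, Module.Flat R (P n) := fun n => termwiseFlat_of_projective hN _
  have hd : ∀ n, (d n).comp (d (n + 1)) = 0 := fun n =>
    congrArg ModuleCat.Hom.hom (N.d_comp_d (-((n + 1 + 1 : ℕ) : ℤ)) (-((n + 1 : ℕ) : ℤ)) (-(n : ℤ)))
  have key : ∀ (X : ModuleCat.{u} R) (n : ℕ),
      ((tensM X).obj N).ExactAt (-((n + 1 : ℕ) : ℤ)) ↔ Ex d n X := fun X n => by
    rw [HomologicalComplex.exactAt_iff' _ (-((n + 1 + 1 : ℕ) : ℤ)) (-((n + 1 : ℕ) : ℤ)) (-(n : ℤ))
      (by simp; omega) (by simp),
      ShortComplex.ShortExact.moduleCat_exact_iff_function_exact]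
    exact Iff.rfl
  refine (key M k).2 (ex_of_finitePresentation A (fun n X _ _ _ _ => ?_) hd hs k M)
  refine (key (ModuleCat.of R X) n).1 ?_
  refine (exactAt_tensM_restrict (algebraMap R A) (fun M' => hT M' _ (Or.inl (by omega)))
    (ModuleCat.of A X)).of_iso
    ((NatIso.mapHomologicalComplex ((tensoringLeft (ModuleCat.{u} R)).mapIso
      (LinearEquiv.toModuleIso (X₁ := (ModuleCat.restrictScalars.{u} (algebraMap R A)).obj (ModuleCat.of A X))
        (X₂ := X)
        { AddEquiv.refl X with map_smul' := fun r x => algebraMap_smul A r (show X from x) }))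
      (ComplexShape.up ℤ)).app N)

end Groth.Agent.StratDesc
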