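import Groth.Prelude.Def_FlatMod2
import Groth.Agent.StratDescLib.Derived
import Groth.Agent.TildePerf.Amp
import Groth.Agent.TildeLpull.Main
import Groth.Agent.TildeD.QCohPull
import Groth.Agent.DCohMore.DescFPPF
import Groth.Agent.DRingLib.BaseChange
import Groth.Agent.DCohLib.PerfLocFree

/-!
# Flatness in degree zero descends along surjective morphisms of finite presentation
-/

set_option autoImplicit false
set_option linter.style.haveILetI false
set_option backward.isDefEq.respectTransparency false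
set_option maxHeartbeats 1000000

universe u

open CategoryTheory Limits AlgebraicGeometry TopologicalSpace
attribute [local instance] HasDerivedCategory.standard

noncomputable section

namespace Groth.Agent.StratDesc

open Groth.Agent.DCohLib Groth.Agent.TildeLpull

variable {X S : Scheme.{u}}

theorem hasFlatAmplitudeIn_congr {K L : DCoh.D X} (e : K ≅ L) {a b : ℤ}
    (h : DCoh.HasFlatAmplitudeIn a b K) : DCoh.HasFlatAmplitudeIn a b L := by
  obtain ⟨E, hE, hfl, ⟨e'⟩⟩ := h
  exact ⟨E, hE, hfl, ⟨e' ≪≫ e⟩⟩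

theorem hasFlatAmplitudeIn_inD {F : X.Modules} (hF : FlatMod.IsFlat F) :
    DCoh.HasFlatAmplitudeIn 0 0 (DCoh.inD X F) := by
  refine ⟨(HomologicalComplex.single X.Modules (ComplexShape.up ℤ) 0).obj F,
    fun i hi => HomologicalComplex.isZero_single_obj_X _ _ _ _ (by omega), fun i => ?_,
    ⟨((DerivedCategory.singleFunctorIsoCompQ X.Modules 0).app F).symm⟩⟩
  by_cases hi : i = 0
  · subst hi
    exact isFlat_congr (HomologicalComplex.singleObjXSelf (ComplexShape.up ℤ) 0 F).symm hF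
  · exact (isFlat_iff _).2 ((Groth.Agent.KFlat.flatClassMod X.sheaf).zero
      (HomologicalComplex.isZero_single_obj_X (ComplexShape.up ℤ) 0 F i hi))

/-- Amplitude zero: a flat module in degree zero. -/
theorem exists_flat_of_amp {K : DCoh.D X} (h : DCoh.HasFlatAmplitudeIn 0 0 K) :
    ∃ F : X.Modules, FlatMod.IsFlat F ∧ Nonempty (K ≅ DCoh.inD X F) := by
  obtain ⟨E, hE, hfl, ⟨e⟩⟩ := h
  haveI : E.IsStrictlyGE 0 := (CochainComplex.isStrictlyGE_iff _ _).2 fun i hi => hE i (Or.inl hi)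
  haveI : E.IsStrictlyLE 0 := (CochainComplex.isStrictlyLE_iff _ _).2 fun i hi => hE i (Or.inr hi)
  obtain ⟨M, ⟨eM⟩⟩ := E.exists_iso_single 0
  have eX : E.X 0 ≅ M := (HomologicalComplex.eval _ _ 0).mapIso eM ≪≫
    HomologicalComplex.singleObjXSelf (ComplexShape.up ℤ) 0 M
  refine ⟨M, isFlat_congr eX (hfl 0), ⟨e.symm ≪≫ ?_⟩⟩
  exact DerivedCategory.Q.mapIso eM ≪≫ ((DerivedCategory.singleFunctorIsoCompQ X.Modules 0).app M).symm

theorem amp_restrict_affine {R : Type u} [CommRing R] {A : Type u} [CommRing A] (φ : R →+* A)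
    (hfp : φ.FinitePresentation) (hs : Function.Surjective (PrimeSpectrum.comap φ))
    (K : DCoh.D (Spec (CommRingCat.of R))) (hK : DCoh.IsQCohD K) (hpos : ∀ i : ℤ, 0 < i → IsZero (DCoh.HD K i))
    (h : DCoh.HasFlatAmplitudeIn 0 0 ((DCoh.Lpull (specMap φ)).obj K)) :
    DCoh.HasFlatAmplitudeIn 0 0 K := by
  letI := φ.toAlgebra
  haveI : Algebra.FinitePresentation R A := hfp
  haveI : PreservesFiniteLimits (tilde.functor (CommRingCat.of R)) := TildeD.preservesFiniteLimits_tilde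
  haveI : PreservesFiniteLimits (tilde.functor (CommRingCat.of A)) := TildeD.preservesFiniteLimits_tilde
  haveI : DRing.HasLBaseChange φ := DRingLib.hasLBaseChange φ
  obtain ⟨M, ⟨eM⟩⟩ := ((TildeD.main (CommRingCat.of R)).2.2 K).1 hK
  have hM : DCohLib.AboveZero 1 M := fun i hi => by
    refine ?_
    have hz : IsZero ((tilde.functor (CommRingCat.of R)).obj
        ((DerivedCategory.homologyFunctor (ModuleCat.{u} R) i).obj M)) :=
      ((hpos i (by omega)).of_iso ((DerivedCategory.homologyFunctor _ i).mapIso eM)).of_iso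
        ((TildeD.nuT (CommRingCat.of R) i).app M).symm
    rw [IsZero.iff_id_eq_zero] at hz ⊢
    apply tilde.fullyFaithfulFunctor.map_injective
    exact ((tilde.functor (CommRingCat.of R)).map_id _).trans (hz.trans ((tilde.functor (CommRingCat.of R)).map_zero _ _).symm)
  refine hasFlatAmplitudeIn_congr eM (TildePerf.flatAmplitude_tilde ?_)
  haveI : DRing.HasLBaseChange (algebraMap R A) := DRingLib.hasLBaseChange _
  refine amp_zero_of_lbc (A := A) hs M hM (TildePerf.flatAmplitude_tilde_iff.1 ?_)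
  exact hasFlatAmplitudeIn_congr ((DCoh.Lpull (specMap φ)).mapIso eM.symm ≪≫
    ((lbcLpullIso φ).app M).symm) h

/-- The main statement. -/
theorem amp_of_lpull (f : X ⟶ S) [Surjective f] [LocallyOfFinitePresentation f] [QuasiCompact f]
    (M : DCoh.D S) (hM : DCoh.IsQCohD M) (hpos : ∀ i : ℤ, 0 < i → IsZero (DCoh.HD M i))
    (h : DCoh.HasFlatAmplitudeIn 0 0 ((DCoh.Lpull f).obj M)) :
    ∀ s : S, ∃ (U : Scheme.{u}) (j : U ⟶ S) (_ : IsOpenImmersion j) (y : U), j y = s ∧
      DCoh.HasFlatAmplitudeIn 0 0 ((DCoh.restrictD j).obj M) := by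
  intro s
  obtain ⟨U, hU, hsU, -⟩ := exists_isAffineOpen_mem_and_subset (X := S) (x := s) (U := ⊤) trivial
  obtain ⟨y, hy⟩ : s ∈ Set.range hU.fromSpec := by
    rw [hU.range_fromSpec]
    exact hsU
  refine ⟨_, hU.fromSpec, inferInstance, y, hy, ?_⟩
  let X' : Scheme.{u} := (f ⁻¹ᵁ U : X.Opens)
  haveI : CompactSpace X' := isCompact_iff_compactSpace.1 (f.isCompact_preimage hU.isCompact)
  let 𝒱 := X'.affineCover.finiteSubcover
  let W : Scheme.{u} := ∐ 𝒱.X
  haveI : Fintype 𝒱.I₀ := inferInstance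
  haveI : ∀ k, IsAffine (𝒱.X k) := fun k => inferInstanceAs (IsAffine (X'.affineCover.X _))
  let g : W ⟶ X := Sigma.desc 𝒱.f ≫ (f ⁻¹ᵁ U).ι
  haveI : LocallyOfFinitePresentation (Sigma.desc 𝒱.f) :=
    IsZariskiLocalAtSource.sigmaDesc fun k => inferInstance
  haveI : LocallyOfFinitePresentation g := inferInstanceAs (LocallyOfFinitePresentation (Sigma.desc 𝒱.f ≫ _))
  haveI : IsAffine W := inferInstance
  have hgU : Set.range (g ≫ f) ⊆ Set.range hU.fromSpec := by
    rintro _ ⟨w, rfl⟩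
    rw [hU.range_fromSpec]
    exact ((Sigma.desc 𝒱.f) w).2
  let a := W.isoSpec.inv ≫ IsOpenImmersion.lift hU.fromSpec (g ≫ f) hgU
  have ha : a ≫ hU.fromSpec = (W.isoSpec.inv ≫ g) ≫ f := by
    simp only [a, Category.assoc, IsOpenImmersion.lift_fac]
  haveI : LocallyOfFinitePresentation (a ≫ hU.fromSpec) := by
    rw [ha]
    infer_instance
  haveI : LocallyOfFinitePresentation a := by
    have hpb : IsPullback (𝟙 _) a (a ≫ hU.fromSpec) hU.fromSpec := IsPullback.of_isLimit'
      ⟨Category.id_comp _⟩ (PullbackCone.IsLimit.mk _ (fun c => c.fst) (fun c => Category.comp_id _)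
        (fun c => (cancel_mono hU.fromSpec).1 ((Category.assoc _ _ _).trans c.condition))
        fun c m h1 _ => by simpa using h1)
    exact MorphismProperty.of_isPullback hpb inferInstance
  let φ := (Spec.preimage a).hom
  have hφ : specMap φ = a := Spec.map_preimage a
  have hfp : φ.FinitePresentation :=
    (HasRingHomProperty.Spec_iff (P := @LocallyOfFinitePresentation) (φ := Spec.preimage a)).1
      (by rw [Spec.map_preimage]; infer_instance)
  have hs : Function.Surjective (PrimeSpectrum.comap φ) := by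
    show Function.Surjective (specMap φ)
    intro p
    obtain ⟨x, hx⟩ := f.surjective (hU.fromSpec p)
    have hxU : x ∈ f ⁻¹ᵁ U := by
      show f x ∈ U
      rw [hx]
      exact hU.range_fromSpec.subset ⟨p, rfl⟩
    obtain ⟨k, v, hv⟩ := 𝒱.exists_eq (⟨x, hxU⟩ : X')
    refine ⟨W.isoSpec.hom (Sigma.ι 𝒱.X k v), hU.fromSpec.isOpenEmbedding.injective ?_⟩
    rw [hφ, ← hx]
    show ((Sigma.ι 𝒱.X k ≫ W.isoSpec.hom) ≫ (a ≫ hU.fromSpec)) v = _
    rw [ha]
    simp only [g, Category.assoc, Iso.hom_inv_id_assoc, colimit.ι_desc_assoc, Cofan.mk_ι_app]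
    show f ((f ⁻¹ᵁ U).ι (𝒱.f k v)) = _
    rw [hv]
    rfl
  refine amp_restrict_affine φ hfp hs _ (TildeD.isQCohD_restrict _ M hM)
    (fun i hi => ((Scheme.Modules.restrictFunctor hU.fromSpec).map_isZero (hpos i hi)).of_iso
      (TildeD.restrictHDIso hU.fromSpec i M)) ?_
  obtain ⟨c₁⟩ := nonempty_lpullCompIso (specMap φ) hU.fromSpec
  obtain ⟨c₂⟩ := nonempty_lpullCompIso (W.isoSpec.inv ≫ g) f
  have key : ∀ (p q : Spec Γ(W, ⊤) ⟶ S), p = q → Nonempty ((DCoh.Lpull p).obj M ≅ (DCoh.Lpull q).obj M) := by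
    rintro p _ rfl
    exact ⟨Iso.refl _⟩
  obtain ⟨c₀⟩ := key (specMap φ ≫ hU.fromSpec) ((W.isoSpec.inv ≫ g) ≫ f) (by rw [hφ, ha])
  exact hasFlatAmplitudeIn_congr
    ((c₂.app M) ≪≫ c₀.symm ≪≫ (c₁.app M).symm ≪≫
      (DCoh.Lpull (specMap φ)).mapIso ((DCohMore.lpullRestrictNatIso hU.fromSpec).app M))
    (hasFlatAmplitudeIn_Lpull (W.isoSpec.inv ≫ g) h)

end Groth.Agent.StratDesc
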